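/- The model `T` is a Sylow 2-subgroup of the Higman–Sims group. -/
import Cfsg.Agent.SYL.HS9.Mod
import Cfsg.Agent.REC.HSData
import Cfsg.Agent.REC.S64.Sy

set_option autoImplicit false
set_option maxRecDepth 100000
set_option maxHeartbeats 200000

namespace CL.HS9

open Cfsg CL.K CL.CG CL.CE CL.A10 CL.Leech CL.F2M CL.Rec CL.Rec.HS CL.S64 Subgroup

/-- the relations as words -/
def RL : List (List ℕ × List ℕ) := [([7,7,7,7], []), ([9,9,9,9], []), ([11,11,11,11], []),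
  ([7,9], [9,7]), ([7,11], [11,7]), ([9,11], [11,9]), ([0,0], []), ([1,1], []),
  ([0,1,0,1], [1,0,1,0]), ([0,7], [7,7,7,0]), ([0,9], [7,7,9,9,9,11,11,11,0]), ([0,11], [11,0]),
  ([1,7], [7,1]), ([1,9], [9,9,9,1]), ([1,11], [7,9,9,11,11,11,1])]

theorem rel_of {M : Type*} [Group M] {g : ℕ → M} (e : ∀ e ∈ RL, ev g e.1 = ev g e.2) {K : Subgroup M}
    (m : ∀ a ∈ [0, 1, 7, 9, 11], g a ∈ K) (n : ∀ e ∈ [([7,7], ([] : List ℕ))], ev g e.1 ≠ ev g e.2) :
    ∃ ψ : T →* K, Function.Injective ψ := by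
  simp only [RL, List.forall_mem_cons, ev_cons, ev_nil, mul_one] at e m n
  obtain ⟨m0, m1, m7, m9, m11, -⟩ := m
  obtain ⟨e1, e2, e3, e4, e5, e6, e7, e8, e9, e10, e11, e12, e13, e14, e15, -⟩ := e
  obtain ⟨ψ, h, -⟩ := Rel.exists_hom (G := K) (i := ⟨_, m7⟩) (j := ⟨_, m9⟩) (k := ⟨_, m11⟩)
    (s := ⟨_, m0⟩) (x := ⟨_, m1⟩) (by
      constructor <;> (try simp only [mul_inv_eq_iff_eq_mul]) <;> refine Subtype.ext ?_ <;>
        simp only [coe_mul, coe_one, pow_succ, pow_zero, one_mul, mul_assoc] <;> assumption)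
  refine ⟨ψ, inj_of fun e => n.1 ?_⟩
  rw [show T.z = T.i * T.i by decide +kernel, map_mul, h] at e
  exact congrArg Subtype.val e

theorem exists_emb : ∃ θ : T →* Spor.HS, Function.Injective θ := by
  obtain ⟨ψ, h⟩ := rel_of (ev_eq_of_eqsB C24 hL (es := RL) (by decide +kernel)) (K := CE.gen g WT)
    (fun a ha => mem_gen_letter ((by decide : ∀ a ∈ [0, 1, 7, 9, 11], [a] ∈ WT) a ha))
    (ev_ne_of_nesB C24 hL (by decide +kernel))
  obtain ⟨a⟩ := equivG.2
  exact ⟨((a.trans eqHS.symm).toMonoidHom).comp ψ, (a.trans eqHS.symm).injective.comp h⟩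

theorem exists_sy {G : Type*} [Group G] [Finite G] (S : Sylow 2 G) (P : Sylow 2 Spor.HS)
    (e : (S : Subgroup G) ≃* (P : Subgroup Spor.HS)) : ∃ φ : T →* G, Sy φ := by
  obtain ⟨θ, hθ⟩ := exists_emb
  have c : Nat.card Spor.HS = 44352000 := (Nat.card_congr eqHS.toEquiv).trans card_GHS
  have : Finite Spor.HS := Nat.finite_of_card_ne_zero (by rw [c]; norm_num)
  have hr : Nat.card θ.range = 2 ^ (Nat.card Spor.HS).factorization 2 := by
    rw [← Nat.card_congr (MonoidHom.ofInjective hθ).toEquiv, T.card, c]; decide +kernel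
  let f : T ≃* S := ((MonoidHom.ofInjective hθ).trans ((Sylow.ofCard θ.range hr).equiv P)).trans e.symm
  refine ⟨(S : Subgroup G).subtype.comp f.toMonoidHom, (S : Subgroup G).subtype_injective.comp
    f.injective, ?_⟩
  rw [MonoidHom.range_comp, MonoidHom.range_eq_top.2 f.surjective, ← MonoidHom.range_eq_map,
    range_subtype]
  exact MSS.sylIn_top S

end CL.HS9
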