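/- Finite facts on the model `T`. -/
import Cfsg.Agent.SYL.HS9.Mod

set_option autoImplicit false
set_option maxRecDepth 100000
set_option maxHeartbeats 200000

namespace CL.HS9.T

open CL.K Subgroup

/-- `k ^ 2` -/
def u : T := mk' 32
/-- `j ^ 2` -/
def w : T := mk' 8
/-- `x s x s` -/
def c : T := mk' 192
/-- `k c` -/
def t : T := mk' 208

/-- the elements with trivial square -/
def iv (n : ℕ) : T := mk' (Nat.shiftRight (nat_lit 0xf9fcbe3f0f1f8bc3e0e9f4ba3d0e1f0b83c09dcea733891c8a43208dc6a331881c0a03007dbe5e4f075ba5c4e06db65a4d065b2584c05f2f16eb5552a146a14fa752c9445a250480379b4d66933994c661271309448231108440150a04420050200400) (Nat.mul 9 n))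

/-- their classes `1, z, u, w, s, i s, x, j x, c, t` -/
def cl (a : T) : ℕ := Nat.mod (Nat.shiftRight (nat_lit 0x45450000000000005454000000000000454500000000000054540000000000000000000000000000000000000000000000000000000000000000000000000000000000000000000000000000000000000000000000000000000000005454000000000000000000005454000054540000000000000000000054540000909000000909000080800000080800009090000009090000808000000808070700007070000000000606000060607070000007070000000060600000060600000000000000007070606070706060000000000000000007070606070706060000000000000000000003030000020200000000000000000000030300000100) (Nat.mul 4 a.v)) 16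

/-- conjugators -/
def wt (a : T) : T := mk' (Nat.shiftRight (nat_lit 0x26150a84c00000000000000000000000000024120a0500000000000000000000000000002e110885c0000000000000000000000000002c1608040000000000000000000000000000000000000000000000000000000000000000000000000000000000000000000000000000000000000000000000000000000000000000000000000000000000000000000000000000000000000000000000000000000000000000000000000000000000000000000000000000000000000000000000000000000000000000000000000000000000060301a0d000000000000000000000000000000000000000000000048241008000000000020100a050000000000000000000000000000000000000000000000080400000000000000600008000000000000006000100000000000600008000000000000006000100000000000e00028000000000000002000000000000000e0002800000000000000200000004000120000000000880026000000000000000000000004d001140000000008200248009200208000000000000045001340000000000000000009800220000000000000048001000000000000000000000000000000000000000800060000800060000a00068000a0006800000000000000000000000000000000000000000900004000900004000800000000800000000000000000000000000000000000000000000000000005000100000000000001000000000000000000000000000000000000000000000000000002000000000000000000000000)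 (Nat.mul 9 a.v))

/-- representatives -/
def rp (n : ℕ) : T := mk' (Nat.shiftRight (nat_lit 0x1a0c0221020300040800400) (Nat.mul 9 n))

theorem iv_spec : (∀ a : T, a * a = 1 → ∃ n < 88, iv n = a) ∧ ∀ n < 88, iv n * iv n = 1 := by
  decide +kernel

noncomputable instance (priority := 20000) decAllI (p : T → Prop) [DecidablePred p] :
    Decidable (∀ a : T, a * a = 1 → p a) :=
  decidable_of_iff (allLt (fun n => decide (p (iv n))) 88 = true) (by
    simp only [allLt_iff, decide_eq_true_eq]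
    exact ⟨fun h a ha => (iv_spec.1 a ha).elim fun n e => e.2 ▸ h n e.1,
      fun h n hn => h _ (iv_spec.2 n hn)⟩)

noncomputable instance (priority := 20000) decExI (p : T → Prop) [DecidablePred p] :
    Decidable (∃ a : T, a * a = 1 ∧ p a) :=
  decidable_of_iff (anyLt (fun n => decide (p (iv n))) 88 = true) (by
    simp only [anyLt_iff, decide_eq_true_eq]
    exact ⟨fun ⟨n, hn, h⟩ => ⟨_, iv_spec.2 n hn, h⟩,
      fun ⟨a, ha, h⟩ => (iv_spec.1 a ha).elim fun n e => ⟨n, e.1, e.2 ▸ h⟩⟩)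

theorem wt_spec : ∀ a : T, a * a = 1 → wt a * rp (cl a) * (wt a)⁻¹ = a := by decide +kernel

theorem isConj_cl {a b : T} (ha : a * a = 1) (hb : b * b = 1) (h : cl a = cl b) : IsConj a b :=
  (isConj_iff.2 ⟨_, wt_spec a ha⟩).symm.trans (isConj_iff.2 ⟨_, h ▸ wt_spec b hb⟩)

theorem ncard_eq (p : T → Prop) [DecidablePred p] :
    {a | p a}.ncard = sumLt (fun n => cond (decide (p (mk' n))) 1 0) 512 := by
  have e : {a | p a} = mk' '' ((Finset.range 512).filter fun n => p (mk' n) : Finset ℕ) := by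
    ext a
    simp only [Set.mem_ofPred_eq, Set.mem_image, Finset.coe_filter, Finset.mem_range]
    exact ⟨fun h => ⟨a.v, ⟨a.h, (mk'_v a).symm ▸ h⟩, mk'_v a⟩, by rintro ⟨n, h, rfl⟩; exact h.2⟩
  rw [e, Set.InjOn.ncard_image fun m hm n hn k => by
    simp only [Finset.coe_filter, Finset.mem_range, Set.mem_ofPred_eq] at hm hn
    rw [← Nat.mod_eq_of_lt hm.1, ← Nat.mod_eq_of_lt hn.1]; exact congrArg T.v k,
    Set.ncard_coe_finset, sumLt_eq, Finset.card_filter]
  exact Finset.sum_congr rfl fun n _ => by by_cases h : p (mk' n) <;> simp [h]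

/-- subgroups given by a mask -/
def sub (m : ℕ) (h : ∀ a : T, Nat.land a.v m = 0 → Nat.land a⁻¹.v m = 0 ∧
    ∀ b : T, Nat.land b.v m = 0 → Nat.land (a * b).v m = 0) : Subgroup T where
  carrier := {a | Nat.land a.v m = 0}
  one_mem' := Nat.zero_and m
  mul_mem' := fun {a b} ha hb => (h a ha).2 b hb
  inv_mem' := fun {a} ha => (h a ha).1

instance (m : ℕ) (h) (a : T) : Decidable (a ∈ sub m h) := inferInstanceAs (Decidable (Nat.land a.v m = 0))

/-- `4 * 2^(1+4)` -/
abbrev Q0 : Subgroup T := sub 276 (by decide +kernel)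
/-- `2^(1+4)` -/
abbrev F0 : Subgroup T := sub 277 (by decide +kernel)
/-- `2^3` -/
abbrev V0 : Subgroup T := sub 469 (by decide +kernel)
/-- `4 × 2^2` -/
abbrev W0 : Subgroup T := sub 468 (by decide +kernel)
/-- `⟨i⟩` -/
abbrev I0 : Subgroup T := sub 508 (by decide +kernel)

/-- a subgroup of index two -/
def M1 : Subgroup T where
  carrier := {a | a.v / 64 ∈ [0, 3, 5, 6]}
  one_mem' := by decide
  mul_mem' := fun {a b} ha hb => by
    rw [Set.mem_ofPred_eq, (mul_spec a b).1]
    exact (by decide +kernel : ∀ d ∈ [0, 3, 5, 6], ∀ e ∈ [0, 3, 5, 6],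
      tab d (e * 64) / 64 ∈ [0, 3, 5, 6]) _ ha _ hb
  inv_mem' := fun {a} => (by decide +kernel :
    ∀ a : T, a.v / 64 ∈ [0, 3, 5, 6] → a⁻¹.v / 64 ∈ [0, 3, 5, 6]) a

instance (a : T) : Decidable (a ∈ M1) := inferInstanceAs (Decidable (a.v / 64 ∈ [0, 3, 5, 6]))

theorem index_M1 : M1.index = 2 := index_eq_two_iff.2 ⟨x, by decide +kernel⟩

theorem z_comm : ∀ a : T, a * z = z * a := by decide +kernel
theorem mem_I0 {a : T} : a ∈ I0 ↔ a ∈ zpowers i := by
  refine ⟨fun h => ?_, fun h => zpowers_le.2 (by decide +kernel) h⟩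
  rcases (by decide +kernel : ∀ a ∈ I0, a = 1 ∨ a = i ∨ a = i * i ∨ a = i⁻¹) a h with e | e | e | e <;>
    simp only [e, one_mem, mem_zpowers, mul_mem, inv_mem]
theorem nQ : Q0.Normal := by
  have e : ∀ a : T, a.v < 256 → ∀ q ∈ Q0, a * q * a⁻¹ ∈ Q0 := by decide +kernel
  have e' : ∀ a : T, a.v < 256 ∨ (a * s).v < 256 := by decide +kernel
  have e'' : ∀ q ∈ Q0, s⁻¹ * q * s ∈ Q0 := by decide +kernel
  exact ⟨fun q hq a => (e' a).elim (fun h => e a h q hq) fun h => by
    simpa [mul_assoc] using e _ h _ (e'' q hq)⟩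
theorem sqQ : ∀ q ∈ Q0, q * q = 1 ∨ q * q = z := by decide +kernel
theorem iQ : ∀ a ∈ I0, ∀ q ∈ Q0, q * a = a * q := by decide +kernel
theorem cmQ : ∀ p ∈ Q0, ∀ q ∈ Q0, p * q = q * p ∨ p * q = q * p * z := by decide +kernel
theorem cenQ : ∀ q ∈ Q0, (∀ r ∈ Q0, q * r = r * q) → q ∈ I0 := by decide +kernel
theorem allF : ∀ q ∈ Q0, q ∈ F0 ∨ q * i ∈ F0 := by decide +kernel
theorem cmV : ∀ a ∈ V0, a * a = 1 ∧ ∀ b ∈ V0, a * b = b * a := by decide +kernel
theorem cmW : ∀ a ∈ W0, a * u = u * a := by decide +kernel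

theorem t_mem {K : Subgroup T} (hK : K.Normal) (hQ : Q0 ≤ K) {a : T} (ha : a ∈ K) (h : a ∉ Q0) :
    t ∈ K := by
  have c : ∀ g, a * g * a⁻¹ * g⁻¹ ∈ K := fun g => by
    simpa only [mul_assoc] using K.mul_mem ha (hK.conj_mem _ (K.inv_mem ha) g)
  rcases (by decide +kernel : ∀ a ∉ Q0, a * t ∈ Q0 ∨ a * a * t ∈ Q0 ∨ a * s * a⁻¹ * s⁻¹ * t ∈ Q0 ∨
    a * j * a⁻¹ * j⁻¹ * t ∈ Q0) a h with e | e | e | e
  exacts [(K.mul_mem_cancel_left ha).1 (hQ e), (K.mul_mem_cancel_left (K.mul_mem ha ha)).1 (hQ e),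
    (K.mul_mem_cancel_left (c _)).1 (hQ e), (K.mul_mem_cancel_left (c _)).1 (hQ e)]

theorem ncard_le {a : T} (h1 : a ≠ 1) (h2 : a ≠ z) : {v | v * a = a * v}.ncard ≤ 256 := by
  have e : {v | v * a = a * v}.ncard = Nat.card (centralizer ({a} : Set T)) :=
    Nat.card_congr (Equiv.subtypeEquivRight fun _ => mem_centralizer_singleton_iff.symm)
  have e1 := (centralizer ({a} : Set T)).card_mul_index
  have e2 : (centralizer ({a} : Set T)).index ≠ 1 := fun k => by
    have k' := fun g => mem_centralizer_singleton_iff.1 ((index_eq_one.1 k).ge (mem_top g))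
    exact (by decide +kernel : ∀ a : T, a ≠ 1 → a ≠ z → s * a = a * s → x * a = a * x →
      j * a ≠ a * j) a h1 h2 (k' _) (k' _) (k' _)
  have e3 := (centralizer ({a} : Set T)).index_ne_zero_of_finite
  rw [card] at e1
  have : Nat.card (centralizer ({a} : Set T)) * 2 ≤ 512 := e1 ▸ Nat.mul_le_mul_left _ (by omega)
  omega

theorem ncard_i : {v | v * i = i * v}.ncard = 256 := by rw [ncard_eq]; decide +kernel
theorem ncard_t : {v | v * t = t * v}.ncard = 64 := by rw [ncard_eq]; decide +kernel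
theorem ncard_le' {a : T} (h1 : a * a = 1) (h : cl a = 4 ∨ cl a = 5 ∨ cl a = 7 ∨ cl a = 9) :
    {v | v * a = a * v}.ncard ≤ 64 := by
  rw [ncard_eq]; revert a; decide +kernel

theorem cm_i : ∀ a : T, a * i = i * a ↔ a.v < 256 := by decide +kernel

theorem f1 : ∀ y : T, y * y = 1 → y = 1 ∨ y = z ∨ cl y = cl (z * y) := by decide +kernel
theorem f2 : ∀ a : T, a * a * (a * a) = 1 ∨ a * a * (a * a) = z ∨
    ∀ b : T, b * b = 1 → b * a * (b * a) ≠ 1 := by decide +kernel
theorem f3 : ∀ y : T, y * y = 1 → y ∈ V0 ∨ cl y = 8 ∨ cl y = 9 ∨ ∃ v : T, v * v = 1 ∧ cl v = cl y ∧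
    v * y = y * v ∧ (cl (y * v) = 8 ∨ cl (y * v) = 9) ∧ (cl y = 7 → cl (y * v) = 9) := by
  decide +kernel
theorem f4 : ∀ y : T, y * y = 1 → y ∈ Q0 ∨ cl y = 7 → y ≠ z → ∃ q : T, q * q = 1 ∧ q * y = y * q ∧
    q * i = i * q ∧ ∃ r : T, r * r = 1 ∧ r * y = y * r ∧ r * i = i * r ∧ q * r ≠ r * q := by
  decide +kernel
theorem f5 : ∀ a : T, a * a * (a * a) = 1 → a * a = 1 ∨ a * a = z ∨ a * a = u ∨ a * a = u * z ∨
    ∀ q : T, q * q = 1 → q * a = a * q → ∀ r : T, r * r = 1 → r * a = a * r → q * r = r * q := by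
  decide +kernel
theorem f6 : ∀ v : T, v * v = 1 → cl v = 3 → ∀ b : T, b * v = v * u * b → b * b ≠ z := by
  decide +kernel
theorem f7 : ∀ a : T, a * a = u → ∀ p : T, p * p = 1 → p * a = a * p → ∀ q : T, q * q = 1 →
    q * a = a * q → q * p = p * q * u → cl p = 3 ∨ cl p = cl q ∨ cl p = cl (q * p * a) := by
  decide +kernel
theorem f8 : ∀ y : T, y * y = 1 → (y ∈ Q0 ↔ cl y ∈ [0, 1, 2, 3, 6, 8]) ∧
    (y ∈ M1 → cl y ∈ [0, 1, 2, 3, 8, 9]) ∧ cl y < 10 ∧ (cl y = 0 → y = 1) := by decide +kernel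
theorem f11 : ∀ a : T, a * a ≠ i := by decide +kernel
theorem f12 : ∀ y : T, y * y = z → y = i ∨ y = i⁻¹ ∨ (∃ a : T, a * a = y) ∨
    ∃ q : T, q * q = 1 ∧ y = i * q ∧ i * q = q * i ∧
      (cl q = 8 ∨ (cl q = 6 ∨ cl q = 7) ∧ y * u ≠ u * y) := by decide +kernel
theorem f14 : ∀ y ∈ [u, t], ∀ e ∈ [i, i⁻¹], ∃ a : T, a * a = e * y := by decide +kernel
theorem f16 : ∀ a : T, a * t = t * a → a * a * (a * a) = 1 → a * a = 1 ∨
    (∃ e ∈ [i, i⁻¹], a = e ∨ a = e * t) ∨ ∀ q : T, q * q = 1 → q * t = t * q → q * a = a * q →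
      ∀ r : T, r * r = 1 → r * t = t * r → r * a = a * r → q * r = r * q := by decide +kernel
theorem f17 : ∀ q : T, q * q = 1 → cl q = 8 → ∃ g : T, g * (i * c) = i * q * g := by decide +kernel
theorem f18 : ∀ b : T, b * b = z → b.v < 256 → ∀ a : T, a.v < 256 → b * a * b = a →
    a * a * (a * a) = 1 → a * a = 1 ∨ a * a = z := by decide +kernel
theorem f19 : ∀ b : T, b * i = i * b → b * b = 1 ∨ b * b = z → b ∈ Q0 ∨
    ∃ e ∈ I0, e * b * (e * b) = 1 ∧ (cl (e * b) = 7 ∨ cl (e * b) = 9) := by decide +kernel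
theorem f21 : ∀ f : T, f.v < 256 → f * f ∈ Q0 := by decide +kernel
theorem f22 : ∀ f : T, f.v < 256 → f ∉ Q0 → ∀ q ∈ Q0, (q⁻¹ * (f * q * f⁻¹) ∈ I0 ↔ q ∈ W0) := by
  decide +kernel
theorem f23 : ∀ q ∈ Q0, q ∈ I0 ∨ ∃ e ∈ I0, q * e * (q * e) = 1 ∧ q * e ≠ 1 ∧ q * e ≠ z := by
  decide +kernel
theorem f24 : ∀ b : T, b * u = u * b ∨ b * u = u * b * z := by decide +kernel
theorem f25 : ∀ a : T, (∀ q ∈ [x, w, u, c], q⁻¹ * (a * q * a⁻¹) ∈ I0) → a ∈ Q0 := by decide +kernel
theorem f26 : ∀ a : T, a * u = u * a → a * a * (a * a) = 1 → a * a ∈ V0 := by decide +kernel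
theorem f27 : ∀ v ∈ V0, ∀ y : T, y * y = 1 → y * v = v * z * y → y * u = u * y →
    cl y = 8 ∨ cl y = 9 := by decide +kernel
theorem f28 : ∀ y : T, y * y = 1 → y ∈ Q0 → y ≠ 1 → y ≠ z → ∃ v ∈ V0, v ≠ 1 ∧ v ≠ z ∧
    v * y = y * v := by decide +kernel

end CL.HS9.T
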